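import Mathlib
import Groth.Agent.QCOverAlg.Basic
import Groth.Agent.QCohLib.Closure

/-!
# Colimits of quasi-coherent modules are quasi-coherent
-/

universe u

open CategoryTheory CategoryTheory.Limits AlgebraicGeometry

namespace Groth.Agent.QCohColim

open CategoryTheory.Limits.HasColimitOfHasCoproductsOfHasCoequalizers in
theorem isQuasicoherent_colimit {X : Scheme.{u}} {J : Type u} [SmallCategory J] (F : J ⥤ X.Modules)
    (h : ∀ j, (F.obj j).IsQuasicoherent) : (colimit F).IsQuasicoherent := by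
  haveI := QCOverAlg.isQuasicoherent_sigma (fun j => F.obj j) h
  haveI := QCOverAlg.isQuasicoherent_sigma (fun f : Σ p : J × J, p.1 ⟶ p.2 => F.obj f.1.1) fun f => h _
  let s : (∐ fun f : Σ p : J × J, p.1 ⟶ p.2 => F.obj f.1.1) ⟶ ∐ fun j => F.obj j :=
    Sigma.desc fun f => F.map f.2 ≫ colimit.ι (Discrete.functor F.obj) ⟨f.1.2⟩
  let t : (∐ fun f : Σ p : J × J, p.1 ⟶ p.2 => F.obj f.1.1) ⟶ ∐ fun j => F.obj j :=
    Sigma.desc fun f => colimit.ι (Discrete.functor F.obj) ⟨f.1.1⟩
  haveI := QCohLib.isQuasicoherent_cokernel (s - t)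
  let e : colimit F ≅ cokernel (s - t) :=
    colimit.isoColimitCocone ⟨_, buildIsColimit s t (by simp [s]) (by simp [t]) (colimit.isColimit _)
      (colimit.isColimit _) (Preadditive.isColimitCoforkOfCokernelCofork (cokernelIsCokernel (s - t)))⟩
  exact QCohLib.isQuasicoherent_of_iso e.symm

end Groth.Agent.QCohColim
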